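import Cfsg.Agent.Classical.LinearBasic
import Cfsg.Agent.Layer.Components

/-!
The layer of the centraliser of `diag(-1, …, -1, 1)` in a special linear group is standard.
-/

set_option autoImplicit false
set_option linter.style.haveILetI false

namespace Cfsg.Agent.StdSL

open Subgroup

variable {F : Type*} [Field F] [Fintype F]

theorem main (h2 : (2 : F) ≠ 0) {m : ℕ} (hm : 3 ≤ m) (hme : Even m)
    (t : Matrix.SpecialLinearGroup (Fin (m + 1)) F)
    (ht : (t : Matrix (Fin (m + 1)) (Fin (m + 1)) F) =
      Matrix.diagonal fun i : Fin (m + 1) => if (i : ℕ) + 1 = m + 1 then (1 : F) else -1) :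
    Cfsg.IsStandardSubgroup ((Cfsg.layer
      ↥(centralizer ({t} : Set (Matrix.SpecialLinearGroup (Fin (m + 1)) F)))).map
      (centralizer ({t} : Set (Matrix.SpecialLinearGroup (Fin (m + 1)) F))).subtype) := by
  classical
  let e : Fin m ⊕ Fin 1 ≃ Fin (m + 1) := finSumFinEquiv
  let B : Matrix (Fin m ⊕ Fin 1) (Fin m ⊕ Fin 1) F →* Matrix (Fin (m + 1)) (Fin (m + 1)) F :=
    (Matrix.reindexAlgEquiv F F e).toMonoidHom
  have hBinj : Function.Injective B := (Matrix.reindexAlgEquiv F F e).injective
  have hBsurj : Function.Surjective B := (Matrix.reindexAlgEquiv F F e).surjective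
  have hBdet : ∀ M, (B M).det = M.det := fun M => Matrix.det_reindexAlgEquiv F F e M
  let T : Matrix (Fin m ⊕ Fin 1) (Fin m ⊕ Fin 1) F := Matrix.fromBlocks (-1) 0 0 1
  have htT : (t : Matrix (Fin (m + 1)) (Fin (m + 1)) F) = B T := by
    rw [ht]
    obtain ⟨M, hM⟩ := hBsurj (Matrix.diagonal fun i : Fin (m + 1) => if (i : ℕ) + 1 = m + 1 then (1 : F) else -1)
    rw [← hM]
    congr 1
    have hM' : M = Matrix.diagonal fun s => if (e s : ℕ) + 1 = m + 1 then (1 : F) else -1 := by
      apply hBinj
      rw [hM]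
      ext i j
      simp [B, Matrix.reindexAlgEquiv, Matrix.diagonal_apply]
    rw [hM']
    ext (i | i) (j | j)
    · simp [T, e, Matrix.diagonal_apply, Matrix.one_apply, i.2.ne]
      split <;> simp
    · simp [T, Matrix.diagonal_apply]
    · simp [T, Matrix.diagonal_apply]
    · simp [T, e, Matrix.diagonal_apply, Matrix.one_apply, Subsingleton.elim i j]
  let φ : Matrix.SpecialLinearGroup (Fin m) F →* Matrix.SpecialLinearGroup (Fin (m + 1)) F :=
    { toFun := fun A => ⟨B (Matrix.fromBlocks A.1 0 0 1), by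
        rw [hBdet, Matrix.det_fromBlocks_zero₂₁, A.2, Matrix.det_one, mul_one]⟩
      map_one' := Subtype.ext (by
        show B (Matrix.fromBlocks 1 0 0 1) = 1
        rw [Matrix.fromBlocks_one, map_one])
      map_mul' := fun A A' => Subtype.ext (by
        show B (Matrix.fromBlocks (A.1 * A'.1) 0 0 1) = B _ * B _
        rw [← map_mul, Matrix.fromBlocks_multiply]; simp) }
  have hφ : ∀ A, (φ A : Matrix (Fin (m + 1)) (Fin (m + 1)) F) = B (Matrix.fromBlocks A.1 0 0 1) :=
    fun A => rfl
  have hφinj : Function.Injective φ := fun A A' h =>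
    Subtype.ext (Matrix.fromBlocks_inj.1 (hBinj (congrArg Subtype.val h))).1
  set C := centralizer ({t} : Set (Matrix.SpecialLinearGroup (Fin (m + 1)) F)) with hC
  -- the centraliser of `t` consists of block matrices
  have hmem : ∀ g : Matrix.SpecialLinearGroup (Fin (m + 1)) F, g ∈ C ↔
      ∃ a d, (g : Matrix (Fin (m + 1)) (Fin (m + 1)) F) = B (Matrix.fromBlocks a 0 0 d) := by
    intro g
    rw [mem_centralizer_singleton_iff]
    constructor
    · intro h
      obtain ⟨M, hM⟩ := hBsurj g.1
      obtain ⟨a, b, c, d, rfl⟩ : ∃ a b c d, M = Matrix.fromBlocks a b c d :=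
        ⟨_, _, _, _, (Matrix.fromBlocks_toBlocks M).symm⟩
      have h' := congrArg Subtype.val h
      simp only [Matrix.SpecialLinearGroup.coe_mul, htT, ← hM, ← map_mul] at h'
      have h'' := hBinj h'
      simp [T, Matrix.fromBlocks_multiply, Matrix.fromBlocks_inj] at h''
      have key : ∀ x : F, -x = x ∨ x = -x → x = 0 := fun x hx => by
        have : (2 : F) * x = 0 := by rcases hx with hx | hx <;> [linear_combination -hx; linear_combination hx]
        exact (mul_eq_zero.1 this).resolve_left h2
      have hb : b = 0 := by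
        ext i j
        refine key _ ?_
        have := congrFun (congrFun h''.1 i) j
        simp only [Matrix.neg_apply] at this
        first | exact Or.inl this | exact Or.inr this
      have hc : c = 0 := by
        ext i j
        refine key _ ?_
        have := congrFun (congrFun h''.2 i) j
        simp only [Matrix.neg_apply] at this
        first | exact Or.inl this | exact Or.inr this
      exact ⟨a, d, by rw [← hM, hb, hc]⟩
    · rintro ⟨a, d, hg⟩
      apply Subtype.ext
      rw [Matrix.SpecialLinearGroup.coe_mul, Matrix.SpecialLinearGroup.coe_mul, hg, htT, ← map_mul,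
        ← map_mul]
      simp [T, Matrix.fromBlocks_multiply]
  have hφC : φ.range ≤ C := by
    rintro _ ⟨A, rfl⟩
    exact (hmem _).2 ⟨_, _, hφ A⟩
  set L := φ.range with hL
  have hCL : C ≤ normalizer (L : Set (Matrix.SpecialLinearGroup (Fin (m + 1)) F)) := by
    intro g hg
    rw [mem_normalizer_iff_map_conj_eq]
    refine eq_of_le_of_card_ge ?_ (card_map_of_injective (MulAut.conj g).injective).ge
    rintro _ ⟨_, ⟨A, rfl⟩, rfl⟩
    obtain ⟨a, d, hgv⟩ := (hmem _).1 hg
    obtain ⟨a', d', hgv'⟩ := (hmem _).1 (inv_mem hg)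
    have hmul : Matrix.fromBlocks a 0 0 d * Matrix.fromBlocks a' 0 0 d' = 1 := by
      apply hBinj
      rw [map_mul, map_one, ← hgv, ← hgv', ← Matrix.SpecialLinearGroup.coe_mul, mul_inv_cancel,
        Matrix.SpecialLinearGroup.coe_one]
    rw [Matrix.fromBlocks_multiply, ← Matrix.fromBlocks_one, Matrix.fromBlocks_inj] at hmul
    simp only [Matrix.mul_zero, Matrix.zero_mul, add_zero, zero_add] at hmul
    have hdet : (a * A.1 * a').det = 1 := by
      rw [Matrix.det_mul, Matrix.det_mul, A.2, mul_one, ← Matrix.det_mul, hmul.1, Matrix.det_one]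
    refine ⟨⟨_, hdet⟩, Subtype.ext ?_⟩
    show B _ = (g.1 * (φ A).1) * (g⁻¹).1
    rw [hφ, hgv, hgv', ← map_mul, ← map_mul]
    congr 1
    simp [Matrix.fromBlocks_multiply, hmul.2.2.2]
  -- quasisimplicity
  have hsl : 3 ≤ Fintype.card (Fin m) ∨ (2 ≤ Fintype.card (Fin m) ∧ ∃ x : F, x ≠ 0 ∧ x ^ 2 ≠ 1) :=
    Or.inl (by rwa [Fintype.card_fin])
  have hqs0 : Cfsg.IsQuasisimple (Matrix.SpecialLinearGroup (Fin m) F) :=
    ⟨⟨Classical.commutator_sl_eq_top (hsl.imp id And.right)⟩, Classical.isSimpleGroup_psl hsl⟩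
  have hqs : Cfsg.IsQuasisimple L :=
    Layer.isQuasisimple_congr (MonoidHom.ofInjective hφinj) hqs0
  -- the centraliser of `L`
  have hCenL : ∀ g ∈ centralizer (L : Set (Matrix.SpecialLinearGroup (Fin (m + 1)) F)),
      ∃ a : F, ∃ d, (g : Matrix (Fin (m + 1)) (Fin (m + 1)) F) =
        B (Matrix.fromBlocks (Matrix.scalar (Fin m) a) 0 0 d) := by
    intro g hg
    obtain ⟨M, hM⟩ := hBsurj g.1
    have hcomm : ∀ A : Matrix.SpecialLinearGroup (Fin m) F,
        Matrix.fromBlocks A.1 0 0 1 * M = M * Matrix.fromBlocks A.1 0 0 1 := fun A => by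
      apply hBinj
      rw [map_mul, map_mul, hM, ← hφ]
      exact congrArg Subtype.val (mem_centralizer_iff.mp hg (φ A) ⟨A, rfl⟩)
    obtain ⟨a, b, c, d, rfl⟩ : ∃ a b c d, M = Matrix.fromBlocks a b c d :=
      ⟨_, _, _, _, (Matrix.fromBlocks_toBlocks M).symm⟩
    have hA : ∀ A : Matrix.SpecialLinearGroup (Fin m) F,
        A.1 * a = a * A.1 ∧ A.1 * b = b ∧ c * A.1 = c := fun A => by
      have h := hcomm A
      simp [Matrix.fromBlocks_multiply, Matrix.fromBlocks_inj] at h
      exact ⟨h.1, h.2.1, h.2.2.symm⟩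
    have htr : ∀ i j : Fin m, i ≠ j → ∃ A : Matrix.SpecialLinearGroup (Fin m) F,
        A.1 = Matrix.transvection i j 1 := fun i j hij =>
      ⟨⟨_, Matrix.det_transvection_of_ne i j hij 1⟩, rfl⟩
    have hother : ∀ i : Fin m, ∃ j, j ≠ i := fun i =>
      Fintype.exists_ne_of_one_lt_card (by rw [Fintype.card_fin]; omega) i
    have hb : b = 0 := by
      ext j u
      obtain ⟨i, hi⟩ := hother j
      obtain ⟨A, hA'⟩ := htr i j hi
      have e := congrFun (congrFun (hA A).2.1 i) u
      simpa [hA', Matrix.transvection, Matrix.add_mul, Matrix.single_mul_apply_same] using e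
    have hc : c = 0 := by
      ext u i
      obtain ⟨j, hj⟩ := hother i
      obtain ⟨A, hA'⟩ := htr i j hj.symm
      have e := congrFun (congrFun (hA A).2.2 u) j
      simpa [hA', Matrix.transvection, Matrix.mul_add, Matrix.mul_single_apply_same] using e
    have ha : a ∈ Set.range (Matrix.scalar (Fin m)) := by
      refine Matrix.mem_range_scalar_of_commute_single fun i j hij => ?_
      obtain ⟨A, hA'⟩ := htr i j hij
      have e := (hA A).1
      rw [hA'] at e
      simpa [Matrix.transvection, Matrix.add_mul, Matrix.mul_add, Commute, SemiconjBy] using e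
    obtain ⟨r, rfl⟩ := ha
    exact ⟨r, d, by rw [← hM, hb, hc]⟩
  have hCLC : centralizer (L : Set (Matrix.SpecialLinearGroup (Fin (m + 1)) F)) ≤ C := fun g hg => by
    obtain ⟨a, d, h⟩ := hCenL g hg
    exact (hmem g).2 ⟨_, _, h⟩
  have hab : ∀ x ∈ centralizer (L : Set (Matrix.SpecialLinearGroup (Fin (m + 1)) F)),
      ∀ y ∈ centralizer (L : Set (Matrix.SpecialLinearGroup (Fin (m + 1)) F)), x * y = y * x := by
    intro x hx y hy
    obtain ⟨a, d, h⟩ := hCenL x hx
    obtain ⟨a', d', h'⟩ := hCenL y hy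
    refine Subtype.ext ?_
    rw [Matrix.SpecialLinearGroup.coe_mul, Matrix.SpecialLinearGroup.coe_mul, h, h', ← map_mul,
      ← map_mul, Matrix.fromBlocks_multiply, Matrix.fromBlocks_multiply]
    congr 1
    have hd : d * d' = d' * d := by
      ext i j
      simp [Matrix.mul_apply, Subsingleton.elim i 0, Subsingleton.elim j 0, mul_comm]
    simp [hd, mul_comm a a']
  have htL : t ∈ centralizer (L : Set (Matrix.SpecialLinearGroup (Fin (m + 1)) F)) :=
    mem_centralizer_iff.mpr fun x hx => (mem_centralizer_singleton_iff.mp (hφC hx))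
  have ht2 : orderOf t = 2 := by
    refine orderOf_eq_prime (Subtype.ext ?_) fun h => ?_
    · rw [Matrix.SpecialLinearGroup.coe_pow, htT, ← map_pow, pow_two, Matrix.SpecialLinearGroup.coe_one]
      simp [T, Matrix.fromBlocks_multiply]
    · have h' : B T = B 1 := by rw [map_one, ← htT, h, Matrix.SpecialLinearGroup.coe_one]
      have := congrFun (congrFun (hBinj h') (Sum.inl ⟨0, by omega⟩)) (Sum.inl ⟨0, by omega⟩)
      simp [T] at this
      exact h2 (by linear_combination -this)
  have huniq : ∀ x ∈ centralizer (L : Set (Matrix.SpecialLinearGroup (Fin (m + 1)) F)),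
      x ^ 2 = 1 → x = 1 ∨ x = t := by
    intro x hx hx2
    obtain ⟨a, d, h⟩ := hCenL x hx
    have hsq : B (Matrix.fromBlocks (Matrix.scalar (Fin m) (a * a)) 0 0 (d * d)) = B 1 := by
      rw [map_one, ← Matrix.SpecialLinearGroup.coe_one, ← hx2, Matrix.SpecialLinearGroup.coe_pow, h,
        ← map_pow, pow_two, Matrix.fromBlocks_multiply]
      simp
    rw [← Matrix.fromBlocks_one] at hsq
    have hsq' := Matrix.fromBlocks_inj.1 (hBinj hsq)
    have ha : a * a = 1 := by
      have := congrFun (congrFun hsq'.1 ⟨0, by omega⟩) ⟨0, by omega⟩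
      simpa using this
    have hdet : a ^ m * d.det = 1 := by
      have := x.2
      rw [h, hBdet, Matrix.det_fromBlocks_zero₂₁] at this
      simpa [Matrix.det_diagonal] using this
    have hd1 : d = 1 := by
      have ham : a ^ m = 1 := by
        obtain ⟨k, rfl⟩ := hme
        rw [← two_mul, pow_mul, pow_two, ha, one_pow]
      rw [ham, one_mul, Matrix.det_fin_one] at hdet
      ext i j
      rw [Subsingleton.elim i 0, Subsingleton.elim j 0, hdet, Matrix.one_apply_eq]
    rcases mul_self_eq_one_iff.mp ha with rfl | rfl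
    · refine Or.inl (Subtype.ext ?_)
      rw [h, hd1, map_one, Matrix.fromBlocks_one, map_one, Matrix.SpecialLinearGroup.coe_one]
    · refine Or.inr (Subtype.ext ?_)
      rw [h, hd1, htT, map_neg, map_one]
  -- the layer
  have hlayer : (Cfsg.layer C).map C.subtype = L := by
    have hcomp : Cfsg.IsComponent (L.subgroupOf C) := by
      haveI := (normal_subgroupOf_iff_le_normalizer hφC).mpr hCL
      exact ⟨(inferInstance : (L.subgroupOf C).Normal).isSubnormal,
        Layer.isQuasisimple_congr (subgroupOfEquivOfLe hφC).symm hqs⟩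
    have : Cfsg.layer C = L.subgroupOf C := by
      refine le_antisymm (sSup_le fun K hK => ?_) (le_sSup hcomp)
      rcases Layer.component_le_or_commute hK hcomp.1 with h | h
      · exact h
      · exfalso
        refine Layer.qs_subgroup_not_abelian hK.2 (commutator_eq_bot_iff_le_centralizer.mpr ?_)
        intro x hx
        rw [mem_centralizer_iff]
        intro y hy
        have key : ∀ z ∈ K, (z : Matrix.SpecialLinearGroup (Fin (m + 1)) F) ∈
            centralizer (L : Set (Matrix.SpecialLinearGroup (Fin (m + 1)) F)) := fun z hz =>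
          mem_centralizer_iff.mpr fun l hl => congrArg Subtype.val
            (Layer.commute_of_commutator_eq_bot h hz (b := ⟨l, hφC hl⟩) hl).symm
        exact Subtype.ext (hab _ (key y hy) _ (key x hx))
    rw [this, map_subgroupOf_eq_of_le hφC]
  rw [hlayer]
  refine ⟨hqs, ⟨?_, ?_⟩, ?_, ?_⟩
  · exact even_iff_two_dvd.mpr (ht2 ▸ orderOf_dvd_natCard _ htL)
  · intro g hg
    rw [← Nat.not_even_iff_odd, even_iff_two_dvd]
    intro h2dvd
    obtain ⟨w, hwo⟩ := exists_prime_orderOf_dvd_card' 2 h2dvd
    rw [← Subgroup.orderOf_coe] at hwo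
    obtain ⟨x, hx⟩ := w
    obtain ⟨hx1, hx2⟩ := Subgroup.mem_inf.mp hx
    have hxo : orderOf x = 2 := hwo
    obtain ⟨y, hy, hyx⟩ := hx2
    have hxsq : x ^ 2 = 1 := orderOf_dvd_iff_pow_eq_one.mp hxo.dvd
    have hxt : x = t := (huniq x hx1 hxsq).resolve_left fun e => by simp [e] at hxo
    have hy2 : y ^ 2 = 1 := (MulAut.conj g).injective (by
      rw [map_pow, map_one]; exact hyx ▸ hxsq)
    have hyt : y = t := (huniq y hy hy2).resolve_left fun e => by
      subst e; rw [map_one] at hyx; simp [← hyx] at hxo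
    rw [hxt, hyt] at hyx
    refine hg (le_trans hCL (fun z hz => ?_) (mem_centralizer_singleton_iff.mpr ?_))
    · rw [mem_normalizer_iff_map_conj_eq] at hz ⊢
      rw [map_centralizer_eq_of_map_eq hz]
    · have e : g * t * g⁻¹ = t := hyx
      calc g * t = g * t * g⁻¹ * g := by group
        _ = t * g := by rw [e]
  · intro g hg h
    refine Layer.qs_subgroup_not_abelian hqs ?_
    have hle : L.map (MulAut.conj g).toMonoidHom ≤ centralizer (L : Set _) := by
      rw [← commutator_eq_bot_iff_le_centralizer, commutator_comm]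
      exact h
    refine commutator_eq_bot_iff_le_centralizer.mpr fun x hx => mem_centralizer_iff.mpr fun y hy => ?_
    apply (MulAut.conj g).injective
    rw [map_mul, map_mul]
    exact hab _ (hle (mem_map_of_mem _ hy)) _ (hle (mem_map_of_mem _ hx))
  · refine le_antisymm (fun g hg => ?_) (fun g hg => hCL ?_)
    · rw [mem_normalizer_iff_map_conj_eq] at hg ⊢
      exact map_centralizer_eq_of_map_eq hg
    · rw [mem_normalizer_iff] at hg
      have h1 := (hg t).mp htL
      have h2' : (g * t * g⁻¹) ^ 2 = 1 := by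
        rw [conj_pow, ← ht2, pow_orderOf_eq_one, mul_one, mul_inv_cancel]
      rcases huniq _ h1 h2' with e | e
      · have : t = 1 := conj_eq_one_iff.mp e
        simp [this] at ht2
      · refine mem_centralizer_singleton_iff.mpr ?_
        calc g * t = g * t * g⁻¹ * g := by group
          _ = t * g := by rw [e]
where
  map_centralizer_eq_of_map_eq {G : Type _} [Group G] {H : Subgroup G} {g : G}
      (h : H.map (MulAut.conj g : G →* G) = H) :
      (centralizer (H : Set G)).map (MulAut.conj g : G →* G) = centralizer (H : Set G) := by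
    refine le_antisymm ?_ ?_
    · rintro _ ⟨c, hc, rfl⟩
      refine mem_centralizer_iff.mpr fun x hx => ?_
      obtain ⟨x', hx', rfl⟩ := (h.ge hx)
      rw [← map_mul, ← map_mul, mem_centralizer_iff.mp hc x' hx']
    · intro c hc
      refine ⟨g⁻¹ * c * g, mem_centralizer_iff.mpr fun x hx => ?_, by simp [mul_assoc]⟩
      have e := mem_centralizer_iff.mp hc _ (h.le ⟨x, hx, rfl⟩)
      simp only [MonoidHom.coe_coe, MulAut.conj_apply] at e
      calc x * (g⁻¹ * c * g) = g⁻¹ * (g * x * g⁻¹ * c) * g := by group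
        _ = g⁻¹ * (c * (g * x * g⁻¹)) * g := by rw [e]
        _ = g⁻¹ * c * g * x := by group

end Cfsg.Agent.StdSL
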